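import Cfsg.Agent.HSRecognition.Graph
import Cfsg.Agent.SporStruct.LeechHSMain
import Cfsg.Agent.Lib.Leech.CodeUnique
import Cfsg.Agent.Lib.Leech.Simplicity
import Cfsg.Agent.Lib.Leech.Pairs48
import Cfsg.Prelude.Def_Spor_Conway

/-!
# The Higman–Sims group of the lattice as the model
-/

set_option autoImplicit false

namespace Cfsg.Agent.HSRecognition

open Cfsg Cfsg.Agent.Leech Cfsg.Agent.SporStruct

/-- The stabiliser of the standard pair. -/
abbrev stdStab : Subgroup Co0 :=
  MulAction.stabilizer Co0 (std48 : leechLattice) ⊓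
    MulAction.stabilizer Co0 (std32' - std48 : leechLattice)

theorem std_pair : sqNorm (std48 : GolayPt → ℤ) = 48 ∧
    sqNorm ((std32' - std48 : leechLattice) : GolayPt → ℤ) = 48 ∧
    dotInt (std48 : GolayPt → ℤ) ((std32' - std48 : leechLattice) : GolayPt → ℤ) = -32 := by
  decide +kernel

theorem mem_stdStab {g : Co0} : g ∈ stdStab ↔ g • std48 = std48 ∧ g • std32' = std32' := by
  rw [stdStab, Subgroup.mem_inf, MulAction.mem_stabilizer_iff, MulAction.mem_stabilizer_iff]
  refine and_congr_right fun h => ?_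
  rw [smul_sub', h, sub_left_inj]

theorem std_vectors : Spor.leechV = -std48 ∧ Spor.leechU' = std32' := by
  refine ⟨(neg_neg _).symm, Subtype.ext ?_⟩
  funext p
  revert p
  decide +kernel

theorem card_stdStab : Nat.card stdStab = 44352000 :=
  card_stab_hs codeUnique std_pair.1 std_pair.2.1 std_pair.2.2

theorem smul_std_neg (g : Co0) : g • (-std48 : leechLattice) = -(g • std48) := by
  have h0 : g • (0 : leechLattice) = 0 := by
    have := smul_sub' g std48 std48
    simpa using this
  have := smul_sub' g 0 std48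
  simpa [h0] using this

/-- `Spor.HS` is the stabiliser of the standard pair. -/
noncomputable def hsEquiv : Spor.HS ≃* stdStab where
  toFun g := ⟨⟨g.1, g.2.1.1⟩, mem_stdStab.2 ⟨by
    have h : g.1 • Spor.leechV = Spor.leechV := g.2.1.2
    rw [std_vectors.1] at h
    apply neg_injective
    rw [← smul_std_neg]
    exact h, by
    have h : g.1 • Spor.leechU' = Spor.leechU' := g.2.2
    rw [std_vectors.2] at h
    exact h⟩⟩
  invFun g := ⟨g.1.1, ⟨g.1.2, by
    show g.1.1 • Spor.leechV = Spor.leechV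
    rw [std_vectors.1]
    show g.1 • (-std48 : leechLattice) = -std48
    rw [smul_std_neg, (mem_stdStab.1 g.2).1]⟩, by
    show g.1.1 • Spor.leechU' = Spor.leechU'
    rw [std_vectors.2]
    exact (mem_stdStab.1 g.2).2⟩
  left_inv _ := rfl
  right_inv _ := rfl
  map_mul' _ _ := rfl

/-- The 100 vertices. -/
abbrev Vtx : Type := {x : leechLattice // x ∈ hsConfig std48 (std32' - std48)}

theorem card_Vtx : Nat.card Vtx = 100 := by
  rw [← ncard_hsConfig codeUnique std_pair.1 std_pair.2.1 std_pair.2.2]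
  rfl

noncomputable instance : MulAction stdStab Vtx where
  smul g x := ⟨g.1 • x.1, by
    have := (smul_mem_hsConfig g.1).2 x.2
    rwa [show g.1 • std48 = std48 from g.2.1,
      show g.1 • (std32' - std48) = std32' - std48 from g.2.2] at this⟩
  one_smul _ := Subtype.ext (one_smul _ _)
  mul_smul _ _ _ := Subtype.ext (mul_smul _ _ _)

@[simp] theorem coe_smul_Vtx (g : stdStab) (x : Vtx) : (g • x).1 = g.1 • x.1 := rfl

instance : MulAction.IsPretransitive stdStab Vtx :=
  ⟨fun x y => by
    obtain ⟨g, h1, h2, h3⟩ := hsConfig_transitive codeUnique std_pair.1 std_pair.2.1 std_pair.2.2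
      x.2 y.2
    exact ⟨⟨g, h1, h2⟩, Subtype.ext h3⟩⟩

/-- The standard vertex. -/
def base : Vtx := ⟨std32, mem_std_config.2 (by simp)⟩

instance : FaithfulSMul stdStab Vtx := by
  have hs : IsSimpleGroup stdStab := (isHS_stab std_pair.1 std_pair.2.1 std_pair.2.2).1
  rcases (inferInstance :
    (MulAction.toPermHom stdStab Vtx).ker.Normal).eq_bot_or_eq_top with h | h
  · exact ⟨fun {g g'} hg =>
      (MulAction.toPermHom stdStab Vtx).ker_eq_bot_iff.1 h (Equiv.ext hg)⟩
  · exfalso
    have hall : ∀ x : Vtx, x = base := fun x => by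
      obtain ⟨g, rfl⟩ := MulAction.exists_smul_eq stdStab base x
      have hg : g ∈ (MulAction.toPermHom stdStab Vtx).ker := h ▸ Subgroup.mem_top g
      exact congrArg (fun p : Equiv.Perm Vtx => p base) hg
    have := card_Vtx
    have : Subsingleton Vtx := ⟨fun x y => (hall x).trans (hall y).symm⟩
    have : Nonempty Vtx := ⟨base⟩
    have h1 := Nat.card_unique (α := Vtx)
    omega

theorem card_stabilizer_base : Nat.card (MulAction.stabilizer stdStab base) = 443520 := by
  have h := (MulAction.stabilizer stdStab base).card_mul_index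
  rw [MulAction.index_stabilizer, MulAction.orbit_eq_univ, Set.ncard_univ, card_Vtx,
    card_stdStab] at h
  omega

theorem permElt_mul (σ τ : M24) : permElt (σ * τ) = permElt σ * permElt τ := by
  refine ext_frame fun i => Subtype.ext (funext fun j => ?_)
  rw [mul_smul, coe_permElt_smul, coe_permElt_smul, coe_permElt_smul]
  rfl

/-- `M₂₂` as a subgroup of `M₂₄`. -/
def toM24 (g : Spor.M22) : M24 := ⟨g.1, g.2.1.1⟩

/-- `M₂₂` fixes the standard triple. -/
noncomputable def m22Hom : Spor.M22 →* MulAction.stabilizer stdStab base :=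
  MonoidHom.mk' (fun g => ⟨⟨permElt (toM24 g), mem_stdStab.2
      ⟨permElt_std48 g.2.1.2, (permElt_std32 (σ := toM24 g) g.2.1.2 g.2.2).2⟩⟩,
    Subtype.ext (permElt_std32 (σ := toM24 g) g.2.1.2 g.2.2).1⟩)
    fun g h => Subtype.ext (Subtype.ext (permElt_mul (toM24 g) (toM24 h)))

/-- The vertex stabiliser is `M₂₂`. -/
noncomputable def stabEquiv : MulAction.stabilizer stdStab base ≃* Spor.M22 :=
  (MulEquiv.ofBijective m22Hom (by
    have : Finite (MulAction.stabilizer stdStab base) :=
      Nat.finite_of_card_ne_zero (by rw [card_stabilizer_base]; norm_num)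
    rw [Nat.bijective_iff_injective_and_card]
    refine ⟨fun g h hgh => ?_, by rw [Golay.card_M22, card_stabilizer_base]⟩
    have h' : permElt (toM24 g) = permElt (toM24 h) :=
      congrArg (fun x : MulAction.stabilizer stdStab base => x.1.1) hgh
    exact Subtype.ext (congrArg Subtype.val (mono_injective h').1 :))).symm

theorem exists_orbit_sizes : ∃ b c : Vtx,
    (MulAction.orbit (MulAction.stabilizer stdStab base) b).ncard = 22 ∧
    (MulAction.orbit (MulAction.stabilizer stdStab base) c).ncard = 77 := by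
  obtain ⟨h22, h77, htr⟩ := hsConfig_rank_three codeUnique std_pair.1 std_pair.2.1 std_pair.2.2
    base.2
  have key : ∀ y : Vtx, y ≠ base →
      (MulAction.orbit (MulAction.stabilizer stdStab base) y).ncard =
        {z : leechLattice | z ∈ hsConfig std48 (std32' - std48) ∧ z ≠ base.1 ∧
          (dotInt (base.1 : GolayPt → ℤ) (z : GolayPt → ℤ) = 8 ↔
            dotInt (base.1 : GolayPt → ℤ) (y.1 : GolayPt → ℤ) = 8)}.ncard := by
    intro y hy
    rw [← Set.ncard_image_of_injective (f := fun z : Vtx => z.1) _ Subtype.val_injective]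
    congr 1
    ext z
    constructor
    · rintro ⟨w, ⟨g, rfl⟩, rfl⟩
      have hg : g.1.1 • base.1 = base.1 := congrArg Subtype.val g.2
      refine ⟨(g.1 • y).2, fun e => hy ?_, ?_⟩
      · have : g.1 • y = base := Subtype.ext e
        exact MulAction.injective g.1 (this.trans g.2.symm)
      · show dotInt (base.1 : GolayPt → ℤ) ((g.1.1 • y.1 : leechLattice) : GolayPt → ℤ) = 8 ↔ _
        conv_lhs => rw [← hg, dotInt_smul]
    · rintro ⟨hz, hzne, hiff⟩
      obtain ⟨g, g1, g2, g3, g4⟩ := htr y.1 y.2 z hz (fun e => hy (Subtype.ext e)) hzne hiff.symm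
      exact ⟨⟨z, hz⟩, ⟨⟨⟨g, g1, g2⟩, Subtype.ext g3⟩, Subtype.ext g4⟩, rfl⟩
  obtain ⟨b, hb, hb8⟩ := Set.nonempty_of_ncard_ne_zero (h22 ▸ (by norm_num : (22 : ℕ) ≠ 0))
  obtain ⟨c, hc, hcne, hc8⟩ := Set.nonempty_of_ncard_ne_zero (h77 ▸ (by norm_num : (77 : ℕ) ≠ 0))
  have hne : ∀ z : leechLattice, dotInt (base.1 : GolayPt → ℤ) (z : GolayPt → ℤ) = 8 →
      z ≠ base.1 := fun z hz e => by
    subst e
    rw [dotInt_self, base.2.1] at hz
    norm_num at hz
  refine ⟨⟨b, hb⟩, ⟨c, hc⟩, ?_, ?_⟩
  · refine (key _ fun e => hne b hb8 (congrArg Subtype.val e)).trans (Eq.trans ?_ h22)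
    congr 1
    ext z
    exact ⟨fun h => ⟨h.1, h.2.2.2 hb8⟩, fun h => ⟨h.1, hne z h.2, iff_of_true h.2 hb8⟩⟩
  · refine (key _ fun e => hcne (congrArg Subtype.val e)).trans (Eq.trans ?_ h77)
    congr 1
    ext z
    exact ⟨fun h => ⟨h.1, h.2.1, fun e => hc8 (h.2.2.1 e)⟩,
      fun h => ⟨h.1, h.2.1, iff_of_false h.2.2 hc8⟩⟩

/-- The Higman–Sims group is the model. -/
theorem nonempty_HS_equiv_ker : Nonempty (Spor.HS ≃* Leech.HSAut.chi.ker) := by
  have : Finite stdStab := Nat.finite_of_card_ne_zero (by rw [card_stdStab]; norm_num)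
  obtain ⟨b, c, hb, hc⟩ := exists_orbit_sizes
  obtain ⟨f⟩ := nonempty_equiv_ker card_Vtx hb hc stabEquiv
  exact ⟨hsEquiv.trans f⟩

end Cfsg.Agent.HSRecognition
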