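import Cfsg.Agent.HSRecognition.Points
import Cfsg.Agent.Lib.Leech.HSGraphSimple
import Cfsg.Agent.Lib.Steiner.SRG100

/-!
# Rank 3 groups of degree 100 with point stabiliser `M₂₂`
-/

set_option autoImplicit false

namespace Cfsg.Agent.HSRecognition

open Cfsg Cfsg.Agent.Steiner Cfsg.Agent.Leech.HSAut Cfsg.Agent.SporStruct.HSGraph

variable {H : Type*} [Group H] {Ω : Type*} [MulAction H Ω]

/-- The orbital of `(a, b)` as a relation. -/
def Rel (a b : Ω) (x y : Ω) : Prop := ∃ h : H, h • a = x ∧ h • b = y

theorem Rel.smul {a b x y : Ω} (g : H) (h : Rel (H := H) a b x y) :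
    Rel (H := H) a b (g • x) (g • y) := by
  obtain ⟨k, rfl, rfl⟩ := h
  exact ⟨g * k, mul_smul _ _ _, mul_smul _ _ _⟩

theorem rel_base {a b y : Ω} :
    Rel (H := H) a b a y ↔ y ∈ MulAction.orbit (MulAction.stabilizer H a) b :=
  ⟨fun ⟨h, h1, h2⟩ => ⟨⟨h, h1⟩, h2⟩, fun ⟨h, h2⟩ => ⟨h.1, h.2, h2⟩⟩

variable [MulAction.IsPretransitive H Ω] [Finite H] {a b c : Ω}
  (hcard : Nat.card Ω = 100)
  (hb : (MulAction.orbit (MulAction.stabilizer H a) b).ncard = 22)
  (hc : (MulAction.orbit (MulAction.stabilizer H a) c).ncard = 77)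

include hb in
omit [MulAction.IsPretransitive H Ω] [Finite H] in
theorem base_notMem : a ∉ MulAction.orbit (MulAction.stabilizer H a) b := fun h => by
  have e : MulAction.orbit (MulAction.stabilizer H a) a = {a} := by
    ext y
    simp only [Set.mem_singleton_iff]
    exact ⟨fun ⟨g, hg⟩ => hg ▸ g.2, fun e => by rw [e]; exact MulAction.mem_orbit_self a⟩
  rw [← MulAction.orbit_eq_iff.2 h, e, Set.ncard_singleton] at hb
  omega

include hb hc in
omit [MulAction.IsPretransitive H Ω] [Finite H] in
theorem cases_orbit (hΩ : Nat.card Ω = 100) (x : Ω) (hx : x ≠ a) :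
    x ∈ MulAction.orbit (MulAction.stabilizer H a) b ∨
      x ∈ MulAction.orbit (MulAction.stabilizer H a) c := by
  have : Finite Ω := Nat.finite_of_card_ne_zero (by omega)
  set B := MulAction.orbit (MulAction.stabilizer H a) b
  set C := MulAction.orbit (MulAction.stabilizer H a) c
  have hC : a ∉ C := fun h => by
    have e : MulAction.orbit (MulAction.stabilizer H a) a = {a} := by
      ext y
      simp only [Set.mem_singleton_iff]
      exact ⟨fun ⟨g, hg⟩ => hg ▸ g.2, fun e => by rw [e]; exact MulAction.mem_orbit_self a⟩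
    have : C = {a} := (MulAction.orbit_eq_iff.2 h).symm.trans e
    rw [this, Set.ncard_singleton] at hc
    omega
  have hd : Disjoint B C := by
    rcases MulAction.orbit.eq_or_disjoint (G := MulAction.stabilizer H a) b c with e | e
    · change B = C at e; rw [e] at hb; omega
    · exact e
  have hu : insert a (B ∪ C) = Set.univ := by
    apply Set.eq_of_subset_of_ncard_le (Set.subset_univ _)
    rw [Set.ncard_univ, hΩ, Set.ncard_insert_of_notMem (by
      simp only [Set.mem_union, not_or]; exact ⟨base_notMem hb, hC⟩),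
      Set.ncard_union_eq hd, show B.ncard = 22 from hb, show C.ncard = 77 from hc]
  have := hu ▸ Set.mem_univ x
  simpa [hx] using this

include hcard hb hc in
/-- The orbital of valency 22 is symmetric. -/
theorem rel_symm {x y : Ω} (h : Rel (H := H) a b x y) : Rel (H := H) a b y x := by
  obtain ⟨k, rfl⟩ := MulAction.exists_smul_eq H a b
  obtain ⟨g, rfl, rfl⟩ := h
  suffices hk : Rel (H := H) a (k • a) (k • a) a from hk.smul g
  set S := MulAction.stabilizer H a
  have h1 : Rel (H := H) a (k • a) a (k⁻¹ • a) → Rel (H := H) a (k • a) (k • a) a := fun h => by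
    have := h.smul k
    rwa [smul_inv_smul] at this
  refine h1 (rel_base.2 ?_)
  have hne : k⁻¹ • a ≠ a := fun e => base_notMem hb (by
    rw [inv_smul_eq_iff] at e
    rw [← e]; exact MulAction.mem_orbit_self _)
  rcases cases_orbit hb hc hcard (k⁻¹ • a) hne with e | e
  · exact e
  -- the paired suborbit has the same size
  exfalso
  have e1 : (MulAction.orbit S (k⁻¹ • a)).ncard = 77 := by rw [MulAction.orbit_eq_iff.2 e, hc]
  have key : ∀ z : Ω, (MulAction.orbit S z).ncard *
      Nat.card ↥(S ⊓ MulAction.stabilizer H z) = Nat.card S := fun z => by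
    have h := Subgroup.card_mul_index (MulAction.stabilizer S z)
    rw [MulAction.index_stabilizer] at h
    rw [← h, mul_comm]
    congr 1
    exact Nat.card_congr
      { toFun := fun g => ⟨⟨g.1, g.2.1⟩, g.2.2⟩
        invFun := fun g => ⟨g.1.1, g.1.2, g.2⟩
        left_inv := fun _ => rfl
        right_inv := fun _ => rfl }
  have h2 : Nat.card ↥(S ⊓ MulAction.stabilizer H (k⁻¹ • a)) =
      Nat.card ↥(S ⊓ MulAction.stabilizer H (k • a)) := by
    refine Nat.card_congr ((MulAut.conj k).toEquiv.subtypeEquiv fun g => ?_)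
    simp only [S, Subgroup.mem_inf, MulAction.mem_stabilizer_iff, MulEquiv.toEquiv_eq_coe,
      EquivLike.coe_coe, MulAut.conj_apply, mul_smul]
    rw [inv_smul_smul, smul_eq_iff_eq_inv_smul k, and_comm, smul_left_cancel_iff]
  have k1 := key (k⁻¹ • a)
  have k2 := key (k • a)
  rw [e1, h2] at k1
  rw [hb, ← k1] at k2
  have : 0 < Nat.card ↥(S ⊓ MulAction.stabilizer H (k • a)) := Nat.card_pos
  omega

/-- The graph of the orbital of valency 22. -/
def graph (a b : Ω) : SimpleGraph Ω := SimpleGraph.fromRel (Rel (H := H) a b)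

include hcard hb hc in
theorem adj_iff {x y : Ω} : (graph (H := H) a b).Adj x y ↔ Rel (H := H) a b x y := by
  rw [graph, SimpleGraph.fromRel_adj]
  refine ⟨fun h => h.2.elim id (rel_symm hcard hb hc), fun h => ⟨?_, Or.inl h⟩⟩
  rintro rfl
  obtain ⟨g, h1, h2⟩ := h
  rw [← h2, smul_left_cancel_iff] at h1
  exact base_notMem hb (by rw [h1]; exact MulAction.mem_orbit_self b)

variable (e : MulAction.stabilizer H a ≃* Spor.M22)

include hb e in
omit [MulAction.IsPretransitive H Ω] [Finite H] in
/-- The stabiliser of `a` is doubly transitive on the 22 neighbours. -/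
theorem nbr_two_transitive {y y' : Ω} (hy : Rel (H := H) a b a y) (hy' : Rel (H := H) a b a y')
    (hne : y ≠ b) (hne' : y' ≠ b) : ∃ g : H, g • a = a ∧ g • b = b ∧ g • y = y' := by
  let _ : MulAction Spor.M22 Ω := MulAction.compHom Ω e.symm.toMonoidHom
  have horb : ∀ z : Ω, MulAction.orbit Spor.M22 z = MulAction.orbit (MulAction.stabilizer H a) z := by
    intro z
    ext x
    constructor
    · rintro ⟨m, rfl⟩
      exact ⟨e.symm m, rfl⟩
    · rintro ⟨g, rfl⟩
      refine ⟨e g, ?_⟩
      show e.symm (e g) • z = g • z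
      rw [e.symm_apply_apply]
  obtain ⟨m, h1, h2⟩ := two_transitive (b := b) (by rw [horb]; exact hb)
    (by rw [horb]; exact rel_base.1 hy) (by rw [horb]; exact rel_base.1 hy') hne hne'
  exact ⟨(e.symm m).1, (e.symm m).2, h1, h2⟩

include hcard hb hc e in
/-- The graph has no triangles. -/
theorem no_triangle {y : Ω} (h1 : Rel (H := H) a b a y) (h2 : Rel (H := H) a b b y) : False := by
  have : Finite Ω := Nat.finite_of_card_ne_zero (by omega)
  have hirr : ∀ {x y : Ω}, Rel (H := H) a b x y → x ≠ y := fun h =>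
    ((adj_iff hcard hb hc).2 h).ne
  have hab : Rel (H := H) a b a b := ⟨1, one_smul _ _, one_smul _ _⟩
  -- `b` is joined to all other neighbours of `a`
  have hall : ∀ z, Rel (H := H) a b a z → z ≠ b → Rel (H := H) a b b z := by
    intro z hz hzb
    obtain ⟨g, g1, g2, g3⟩ := nbr_two_transitive hb e h1 hz (hirr h2).symm hzb
    have := h2.smul g
    rwa [g2, g3] at this
  -- any two neighbours of a point are joined
  have hclique : ∀ x z z', Rel (H := H) a b x z → Rel (H := H) a b x z' → z ≠ z' →
      Rel (H := H) a b z z' := by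
    intro x z z' hz hz' hzz
    obtain ⟨g, g1, g2⟩ := hz
    have h := hall (g⁻¹ • z') (by
      have := hz'.smul g⁻¹
      rwa [← g1, inv_smul_smul] at this) (fun e => hzz (by
      rw [inv_smul_eq_iff] at e
      rw [e, g2]))
    have := h.smul g
    rwa [g2, smul_inv_smul] at this
  let r : Setoid Ω := ⟨fun x z => x = z ∨ Rel (H := H) a b x z, fun _ => Or.inl rfl,
    fun h => h.elim (fun e => Or.inl e.symm) fun h => Or.inr (rel_symm hcard hb hc h),
    fun {x y z} h h' => by
      rcases h with rfl | h
      · exact h'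
      · rcases h' with rfl | h'
        · exact Or.inr h
        · by_cases e : x = z
          · exact Or.inl e
          · exact Or.inr (hclique y x z (rel_symm hcard hb hc h) h' e)⟩
  have hclass : ∀ q : Quotient r, Nat.card {x // Quotient.mk r x = q} = 23 := by
    intro q
    induction q using Quotient.inductionOn with | h x =>
    obtain ⟨g, rfl⟩ := MulAction.exists_smul_eq H a x
    have hset : {y | Quotient.mk r y = Quotient.mk r (g • a)} =
        (fun y => g • y) '' insert a (MulAction.orbit (MulAction.stabilizer H a) b) := by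
      ext y
      rw [Set.mem_ofPred_eq, Quotient.eq]
      constructor
      · rintro (rfl | h)
        · exact ⟨a, Set.mem_insert _ _, rfl⟩
        · refine ⟨g⁻¹ • y, Set.mem_insert_of_mem _ (rel_base.1 ?_), smul_inv_smul g y⟩
          have := (rel_symm hcard hb hc h).smul g⁻¹
          rwa [inv_smul_smul] at this
      · rintro ⟨z, rfl | hz, rfl⟩
        · exact Or.inl rfl
        · exact Or.inr (rel_symm hcard hb hc ((rel_base.2 hz).smul g))
    show Set.ncard {y | Quotient.mk r y = Quotient.mk r (g • a)} = 23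
    rw [hset, Set.ncard_image_of_injective _ (MulAction.injective g),
      Set.ncard_insert_of_notMem (base_notMem hb), hb]
  have : Fintype (Quotient r) := Fintype.ofFinite _
  have h := Nat.card_congr (Equiv.sigmaFiberEquiv (Quotient.mk r))
  rw [Nat.card_sigma, Finset.sum_congr rfl (fun q _ => hclass q), Finset.sum_const, smul_eq_mul,
    hcard] at h
  omega

include hcard hb hc e in
theorem isSRG [Fintype Ω] [DecidableRel (graph (H := H) a b).Adj] :
    (graph (H := H) a b).IsSRGWith 100 22 0 6 := by
  classical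
  set Γ := graph (H := H) a b
  have hadj : ∀ {x y : Ω}, Γ.Adj x y ↔ Rel (H := H) a b x y := adj_iff hcard hb hc
  have hinv : ∀ (g : H) {x y : Ω}, Γ.Adj (g • x) (g • y) ↔ Γ.Adj x y := fun g x y => by
    rw [hadj, hadj]
    refine ⟨fun h => ?_, fun h => h.smul g⟩
    have := h.smul g⁻¹
    rwa [inv_smul_smul, inv_smul_smul] at this
  have hn : Fintype.card Ω = 100 := by rw [← Nat.card_eq_fintype_card, hcard]
  have hdeg : Γ.IsRegularOfDegree 22 := fun x => by
    obtain ⟨g, rfl⟩ := MulAction.exists_smul_eq H a x
    rw [← SimpleGraph.card_neighborSet_eq_degree, ← Nat.card_eq_fintype_card,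
      Nat.card_coe_set_eq, ← hb, ← Set.ncard_image_of_injective _ (MulAction.injective g⁻¹)]
    congr 1
    ext y
    constructor
    · rintro ⟨z, hz, rfl⟩
      refine rel_base.1 (hadj.1 ?_)
      rw [← inv_smul_smul g a, hinv]
      exact hz
    · intro hy
      exact ⟨g • y, (hinv g).2 (hadj.2 (rel_base.2 hy)), inv_smul_smul g y⟩
  have hadj0 : ∀ x y, Γ.Adj x y → Fintype.card (Γ.commonNeighbors x y) = 0 := by
    intro x y hxy
    rw [Fintype.card_eq_zero_iff]
    refine ⟨fun ⟨z, hz1, hz2⟩ => ?_⟩
    obtain ⟨g, rfl, rfl⟩ := hadj.1 hxy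
    rw [← smul_inv_smul g z] at hz1 hz2
    exact no_triangle hcard hb hc e (hadj.1 ((hinv g).1 hz1)) (hadj.1 ((hinv g).1 hz2))
  -- nonadjacent pairs form one orbit
  set m := (Γ.commonNeighbors a c).ncard
  have hnon : Pairwise fun x y => ¬ Γ.Adj x y → Fintype.card (Γ.commonNeighbors x y) = m := by
    intro x y hne hxy
    obtain ⟨g, rfl⟩ := MulAction.exists_smul_eq H a x
    have hy : g⁻¹ • y ≠ a := fun e => hne (by rw [inv_smul_eq_iff] at e; rw [e])
    rcases cases_orbit hb hc hcard _ hy with h | ⟨s, hs⟩
    · exact absurd ((hinv g).2 (hadj.2 (rel_base.2 h))) (by rw [smul_inv_smul]; exact hxy)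
    have hsy : (g * s.1) • c = y := by
      rw [mul_smul]
      exact (congrArg (g • ·) hs).trans (smul_inv_smul g y)
    have hsa : (g * s.1) • a = g • a := by rw [mul_smul, s.2]
    rw [← Nat.card_eq_fintype_card, Nat.card_coe_set_eq, ← hsy, ← hsa]
    show _ = (Γ.commonNeighbors a c).ncard
    rw [← Set.ncard_image_of_injective (Γ.commonNeighbors a c) (MulAction.injective (g * s.1))]
    congr 1
    ext z
    simp only [SimpleGraph.mem_commonNeighbors, Set.mem_image]
    constructor
    · rintro ⟨z1, z2⟩
      exact ⟨(g * s.1)⁻¹ • z, ⟨(hinv _).1 (by rwa [smul_inv_smul]),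
        (hinv _).1 (by rwa [smul_inv_smul])⟩, smul_inv_smul _ _⟩
    · rintro ⟨w, ⟨w1, w2⟩, rfl⟩
      exact ⟨(hinv _).2 w1, (hinv _).2 w2⟩
  have hG : Γ.IsSRGWith 100 22 0 m := ⟨hn, hdeg, hadj0, hnon⟩
  have hm : 22 * (22 - 0 - 1) = (100 - 22 - 1) * m := SimpleGraph.IsSRGWith.param_eq Γ hG (by norm_num)
  have : m = 6 := by omega
  rw [this] at hG
  convert hG

variable [FaithfulSMul H Ω]

include hcard hb hc e in
/-- A rank 3 group of degree 100 with point stabiliser `M₂₂` and suborbit lengths 1, 22, 77 is the
simple group of index 2 in the automorphism group of the model graph. -/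
theorem nonempty_equiv_ker : Nonempty (H ≃* chi.ker) := by
  classical
  have : Finite Ω := Nat.finite_of_card_ne_zero (by omega)
  have : Fintype Ω := Fintype.ofFinite Ω
  set Γ := graph (H := H) a b
  obtain ⟨v, B, hα, hB, ⟨f⟩⟩ := srg100_exists (isSRG hcard hb hc e : Γ.IsSRGWith 100 22 0 6)
  let a' := Fintype.equivFinOfCardEq hα
  obtain ⟨q, hq⟩ := normalForm22' _ (steiner_image hB a')
  rw [Set.image_image] at hq
  have hq' : (fun b => b.image (a'.trans q)) '' B = decSet 22 autModel22 := by
    rw [← hq]
    refine Set.image_congr fun b _ => ?_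
    simp [Finset.image_image, Function.comp_def]
  let i : Γ ≃g Model := f.symm.trans (graphIso _ hq')
  let T : H →* Aut :=
    MonoidHom.mk' (fun h => (i.symm.trans
      { toEquiv := MulAction.toPerm h
        map_rel_iff' := fun {x y} => by
          show Γ.Adj (h • x) (h • y) ↔ Γ.Adj x y
          rw [adj_iff hcard hb hc, adj_iff hcard hb hc]
          refine ⟨fun r => ?_, fun r => r.smul h⟩
          have := r.smul h⁻¹
          rwa [inv_smul_smul, inv_smul_smul] at this }).trans i)
      fun g h => RelIso.ext fun x => by simp [RelIso.mul_apply, mul_smul]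
  have hT : Function.Injective T := fun g h hgh => eq_of_smul_eq_smul fun x : Ω => by
    have := congrArg (fun F : Aut => i.symm (F (i x))) hgh
    simpa [T] using this
  have hH : Nat.card H = 44352000 := by
    have h := (MulAction.stabilizer H a).card_mul_index
    rw [MulAction.index_stabilizer, MulAction.orbit_eq_univ, Set.ncard_univ, hcard,
      Nat.card_congr e.toEquiv, Golay.card_M22] at h
    omega
  have hR : Nat.card T.range = 44352000 :=
    (Nat.card_congr (MonoidHom.ofInjective hT).toEquiv).symm.trans hH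
  have : IsSimpleGroup chi.ker := isHS_even.1
  have hidx : T.range.index = 2 := by
    have h := T.range.card_mul_index
    rw [hR, Cfsg.Agent.SporStruct.HSGraph.card_aut_model] at h
    omega
  have : T.range.Normal := Subgroup.normal_of_index_eq_two hidx
  have heq : T.range = chi.ker := by
    rcases (inferInstance : (T.range.subgroupOf chi.ker).Normal).eq_bot_or_eq_top with h | h
    · exfalso
      have h2 : T.range.relIndex chi.ker ∣ T.range.index :=
        Subgroup.relIndex_dvd_index_of_normal _ _
      rw [Subgroup.relIndex, h, Subgroup.index_bot, card_even, hidx] at h2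
      have := Nat.le_of_dvd two_pos h2
      omega
    · have : Finite T.range := Nat.finite_of_card_ne_zero (by omega)
      exact (Subgroup.eq_of_le_of_card_ge (Subgroup.subgroupOf_eq_top.1 h)
        (by rw [hR, card_even])).symm
  exact ⟨(MonoidHom.ofInjective hT).trans (MulEquiv.subgroupCongr heq)⟩

end Cfsg.Agent.HSRecognition
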