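import Cfsg.Agent.Lib.Golay.Subgroups
import Cfsg.Agent.Lib.Golay.Transitive
import Cfsg.Agent.SporStruct.M24Sets

/-!
# Transitive actions of `M₂₂` of degree 22 are doubly transitive
-/

set_option autoImplicit false

namespace Cfsg.Agent.HSRecognition

open Cfsg Cfsg.Agent.Golay

theorem baseSet_two : baseSet 2 = {none, some 0} := by decide +kernel

theorem notMem_baseSet_two {q : GolayPt} : q ∉ baseSet 2 ↔ q ≠ none ∧ q ≠ some 0 := by
  rw [baseSet_two]; simp

theorem mem_M22_fix {g : Equiv.Perm GolayPt} (hg : g ∈ Spor.M22) :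
    g none = none ∧ g (some 0) = some 0 := ⟨hg.1.2, hg.2⟩

/-- `M₂₂` is transitive on ordered pairs of the 22 points. -/
theorem exists_map_pair {p q r : GolayPt} (hp : p ∉ baseSet 2) (hq : q ∉ baseSet 2)
    (hr : r ∉ baseSet 2) (hqp : q ≠ p) (hrp : r ≠ p) :
    ∃ g ∈ Spor.M22, g p = p ∧ g q = r := by
  rw [notMem_baseSet_two] at hp hq hr
  obtain ⟨g, hg, hmap⟩ := SporStruct.M24.exists_map_list (A := [none, some 0, p, q])
    (A' := [none, some 0, p, r])
    (by simp [hp.1.symm, hp.2.symm, hq.1.symm, hq.2.symm, hqp.symm])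
    (by simp [hp.1.symm, hp.2.symm, hr.1.symm, hr.2.symm, hrp.symm]) rfl (by simp)
  simp only [List.map_cons, List.map_nil, List.cons.injEq, and_true] at hmap
  exact ⟨g, ⟨⟨hg, hmap.1⟩, hmap.2.1⟩, hmap.2.2.1, hmap.2.2.2⟩

theorem card_free : (Finset.univ \ baseSet 2 : Finset GolayPt).card = 22 := by decide +kernel

theorem orbF_M22 {p : GolayPt} (hp : p ∉ baseSet 2) :
    orbF Spor.M22 p = Finset.univ \ baseSet 2 := by
  refine Finset.Subset.antisymm (orbF_subset (by rw [M22_eq]) hp) fun q hq => ?_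
  obtain ⟨-, hq⟩ := Finset.mem_sdiff.1 hq
  rw [notMem_baseSet_two] at hp hq
  obtain ⟨g, hg, hmap⟩ := SporStruct.M24.exists_map_list (A := [none, some 0, p])
    (A' := [none, some 0, q])
    (by simp [hp.1.symm, hp.2.symm]) (by simp [hq.1.symm, hq.2.symm]) rfl (by simp)
  simp only [List.map_cons, List.map_nil, List.cons.injEq, and_true] at hmap
  exact mem_orbF.2 ⟨g, ⟨⟨hg, hmap.1⟩, hmap.2.1⟩, hmap.2.2⟩

variable {X : Type*} [MulAction Spor.M22 X]

/-- A transitive action of `M₂₂` on 22 points is doubly transitive. -/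
theorem two_transitive {b : X} (hb : (MulAction.orbit Spor.M22 b).ncard = 22) {y y' : X}
    (hy : y ∈ MulAction.orbit Spor.M22 b) (hy' : y' ∈ MulAction.orbit Spor.M22 b)
    (hne : y ≠ b) (hne' : y' ≠ b) :
    ∃ m : Spor.M22, m • b = b ∧ m • y = y' := by
  set S := MulAction.stabilizer Spor.M22 b with hS
  set K := S.map Spor.M22.subtype with hK
  have hSidx : S.index = 22 := by rw [hS, MulAction.index_stabilizer, hb]
  have hScard : Nat.card S = 20160 := by
    have h := S.card_mul_index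
    rw [hSidx, card_M22] at h
    omega
  have hKle : K ≤ fixUpTo M24 2 := by
    rw [← M22_eq]
    exact Subgroup.map_subtype_le S
  have hKcard : Nat.card K = 20160 := by
    rw [hK, Subgroup.card_map_of_injective Spor.M22.subtype_injective, hScard]
  obtain ⟨p, hp, hfix⟩ := exists_fixed_M22 hKle hKcard
  set T := MulAction.stabilizer (↥Spor.M22) p with hT
  have horb : MulAction.orbit Spor.M22 p = ↑(orbF Spor.M22 p) := by
    ext q; simp [orbF]
  have hTcard : Nat.card T = 20160 := by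
    have h := T.card_mul_index
    rw [hT, MulAction.index_stabilizer, horb, Set.ncard_coe_finset, orbF_M22 hp, card_free,
      card_M22] at h
    rw [hT]
    omega
  have hST : S = T := by
    refine Subgroup.eq_of_le_of_card_ge (fun m hm => ?_) (by omega)
    exact hfix m.1 (Subgroup.mem_map_of_mem _ hm)
  obtain ⟨m, rfl⟩ := hy
  obtain ⟨m', rfl⟩ := hy'
  have key : ∀ n : Spor.M22, n • b ≠ b → n.1 p ≠ p ∧ n.1 p ∉ baseSet 2 := by
    intro n hn
    refine ⟨fun e => hn (show n ∈ S from ?_), fun e => hp ?_⟩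
    · rw [hST]
      exact e
    · have h1 : n.1⁻¹ ∈ fixUpTo M24 2 := by rw [← M22_eq]; exact inv_mem n.2
      have h2 := fix_baseSet h1 e
      rw [Equiv.Perm.coe_inv, Equiv.symm_apply_apply] at h2
      rw [h2]
      exact e
  obtain ⟨g, hg, hgp, hgq⟩ := exists_map_pair hp (key m hne).2 (key m' hne').2 (key m hne).1
    (key m' hne').1
  have hgS : (⟨g, hg⟩ : Spor.M22) ∈ S := by rw [hST]; exact hgp
  refine ⟨⟨g, hg⟩, hgS, ?_⟩
  have h : m'⁻¹ * (⟨g, hg⟩ * m) ∈ S := by
    rw [hST]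
    show (m'.1⁻¹ * (g * m.1)) p = p
    rw [Equiv.Perm.mul_apply, Equiv.Perm.mul_apply, hgq, Equiv.Perm.coe_inv,
      Equiv.symm_apply_apply]
  have h' : (m'⁻¹ * (⟨g, hg⟩ * m)) • b = b := h
  rw [mul_smul, mul_smul, inv_smul_eq_iff] at h'
  exact h'

end Cfsg.Agent.HSRecognition
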